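import Mathlib

/-!
# Flatness of `P ⊗[B] N` over a base ring `K` (helper5)

`P` is a `B`-module, `N` a `B`-module, `K → B` a ring map.  Module versions of the lemmas of
`Groth.Agent.Lead.FB` (there `P` is a `B`-algebra).
-/

set_option autoImplicit false
universe u
open TensorProduct

namespace Groth.Agent.Lib.Helper5.FFRel

section
variable {K B : Type u} [CommRing K] [CommRing B] [Algebra K B]
  (P N : Type u) [AddCommGroup P] [AddCommGroup N] [Module B P] [Module B N] [Module K P]
  [Module K N] [IsScalarTower K B P] [IsScalarTower K B N]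

theorem assoc_lTensor {Q' Q : Type u} [AddCommGroup Q'] [AddCommGroup Q] [Module K Q'] [Module K Q]
    (u : Q' →ₗ[K] Q) (z : (P ⊗[B] N) ⊗[K] Q') :
    AlgebraTensorModule.assoc K B B P N Q (u.lTensor (P ⊗[B] N) z) =
      (AlgebraTensorModule.lTensor B N u).lTensor P (AlgebraTensorModule.assoc K B B P N Q' z) := by
  induction z using TensorProduct.induction_on with
  | zero => simp
  | add a b ha hb => simp only [map_add, ha, hb]
  | tmul y q =>
    induction y using TensorProduct.induction_on with
    | zero => simp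
    | add a b ha hb => simp only [add_tmul, map_add, ha, hb]
    | tmul c n => simp

theorem flat_tensor_of_flat [Module.Flat B P] [Module.Flat K N] : Module.Flat K (P ⊗[B] N) := by
  rw [Module.Flat.iff_lTensor_preserves_injective_linearMap]
  intro Q' Q _ _ _ _ u hu
  have h1 : Function.Injective (AlgebraTensorModule.lTensor B N u) := by
    rw [AlgebraTensorModule.coe_lTensor]
    exact Module.Flat.lTensor_preserves_injective_linearMap u hu
  have h2 : Function.Injective ((AlgebraTensorModule.lTensor B N u).lTensor P) :=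
    Module.Flat.lTensor_preserves_injective_linearMap _ h1
  intro z z' hzz'
  have h3 := congrArg (AlgebraTensorModule.assoc K B B P N Q) hzz'
  rw [assoc_lTensor, assoc_lTensor] at h3
  exact (AlgebraTensorModule.assoc K B B P N Q').injective (h2 h3)

theorem flat_of_flat_tensor [Module.FaithfullyFlat B P] [Module.Flat K (P ⊗[B] N)] :
    Module.Flat K N := by
  rw [Module.Flat.iff_lTensor_preserves_injective_linearMap]
  intro Q' Q _ _ _ _ u hu
  have h0 : Function.Injective (u.lTensor (P ⊗[B] N)) :=
    Module.Flat.lTensor_preserves_injective_linearMap u hu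
  have h2 : Function.Injective ((AlgebraTensorModule.lTensor B N u).lTensor P) := by
    intro w w' hww'
    obtain ⟨z, rfl⟩ := (AlgebraTensorModule.assoc K B B P N Q').surjective w
    obtain ⟨z', rfl⟩ := (AlgebraTensorModule.assoc K B B P N Q').surjective w'
    rw [← assoc_lTensor, ← assoc_lTensor] at hww'
    rw [h0 ((AlgebraTensorModule.assoc K B B P N Q).injective hww')]
  have h1 := (Module.FaithfullyFlat.lTensor_injective_iff_injective B P
    (AlgebraTensorModule.lTensor B N u)).1 h2
  rwa [AlgebraTensorModule.coe_lTensor] at h1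

/-- `m (P ⊗ N) = P ⊗ N` iff `m N = N`, for `P` faithfully flat -/
theorem smul_top_tensor_eq_top_iff [Module.FaithfullyFlat B P] (m : Ideal K) :
    m • (⊤ : Submodule K (P ⊗[B] N)) = ⊤ ↔ m • (⊤ : Submodule K N) = ⊤ := by
  have key : ∀ (W : Type u) [AddCommGroup W] [Module K W],
      m • (⊤ : Submodule K W) = ⊤ ↔ Subsingleton (W ⊗[K] (K ⧸ m)) := by
    intro W _ _
    rw [(TensorProduct.tensorQuotEquivQuotSMul W m).toEquiv.subsingleton_congr,
      Submodule.Quotient.subsingleton_iff]
  rw [key, key]
  have e : (P ⊗[B] N) ⊗[K] (K ⧸ m) ≃ₗ[B] P ⊗[B] (N ⊗[K] (K ⧸ m)) :=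
    AlgebraTensorModule.assoc K B B P N (K ⧸ m)
  rw [e.toEquiv.subsingleton_congr]
  exact Module.FaithfullyFlat.subsingleton_tensorProduct_iff_right B P

end

section
variable {K B : Type u} [CommRing K] [CommRing B] [Algebra K B]
  (P N : Type u) [AddCommGroup P] [AddCommGroup N] [Module B P] [Module B N] [Module K P]
  [Module K N] [IsScalarTower K B P] [IsScalarTower K B N]

/-- `m N = N` implies `m (P ⊗ N) = P ⊗ N` -/
theorem smul_top_tensor_eq_top_of (m : Ideal K) (h : m • (⊤ : Submodule K N) = ⊤) :
    m • (⊤ : Submodule K (P ⊗[B] N)) = ⊤ := by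
  have key : ∀ (W : Type u) [AddCommGroup W] [Module K W],
      m • (⊤ : Submodule K W) = ⊤ ↔ Subsingleton (W ⊗[K] (K ⧸ m)) := by
    intro W _ _
    rw [(TensorProduct.tensorQuotEquivQuotSMul W m).toEquiv.subsingleton_congr,
      Submodule.Quotient.subsingleton_iff]
  rw [key] at h ⊢
  have e : (P ⊗[B] N) ⊗[K] (K ⧸ m) ≃ₗ[B] P ⊗[B] (N ⊗[K] (K ⧸ m)) :=
    AlgebraTensorModule.assoc K B B P N (K ⧸ m)
  rw [e.toEquiv.subsingleton_congr]
  infer_instance

end

/-- linear equivalences preserve `I M = M` -/
theorem smul_top_eq_top_congr {R : Type u} [CommRing R] {M M' : Type u} [AddCommGroup M]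
    [AddCommGroup M'] [Module R M] [Module R M'] (e : M ≃ₗ[R] M') (I : Ideal R) :
    I • (⊤ : Submodule R M) = ⊤ ↔ I • (⊤ : Submodule R M') = ⊤ := by
  have key : ∀ {A A' : Type u} [AddCommGroup A] [AddCommGroup A'] [Module R A] [Module R A']
      (e : A ≃ₗ[R] A'), I • (⊤ : Submodule R A) = ⊤ → I • (⊤ : Submodule R A') = ⊤ := by
    intro A A' _ _ _ _ e h
    have h1 : (I • (⊤ : Submodule R A)).map e.toLinearMap =
        I • (⊤ : Submodule R A).map e.toLinearMap := Submodule.map_smul'' _ _ _
    rw [h, Submodule.map_top, LinearEquiv.range] at h1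
    exact h1.symm
  exact ⟨key e, key e.symm⟩

/-- over a local ring, flat and `m P ≠ P` means faithfully flat -/
theorem faithfullyFlat_of_flat_of_ne_top {B : Type u} [CommRing B] [IsLocalRing B]
    (P : Type u) [AddCommGroup P] [Module B P] [Module.Flat B P]
    (h : IsLocalRing.maximalIdeal B • (⊤ : Submodule B P) ≠ ⊤) : Module.FaithfullyFlat B P where
  submodule_ne_top := by
    intro m hm
    rw [IsLocalRing.eq_maximalIdeal hm]
    exact h

end Groth.Agent.Lib.Helper5.FFRel
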