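import Mathlib

/-!
# The morphism between fibres induced by a base change (helper5)

(same construction as helper4's `FibMap1.fiberMap`; re-done here to keep imports small)
-/

set_option autoImplicit false
universe u
open CategoryTheory CategoryTheory.Limits AlgebraicGeometry TopologicalSpace

namespace Groth.Agent.Lib.Helper5.FFRel

variable {X Y Y' : Scheme.{u}} (f : X ⟶ Y) (g : Y' ⟶ Y)

/-- the morphism from the fibre of a base change to the fibre of the original morphism -/
noncomputable def fibMap (y' : Y') : (pullback.snd f g).fiber y' ⟶ f.fiber (g y') :=
  pullback.map _ _ _ _ (pullback.fst f g) (Spec.map (g.residueFieldMap y')) g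
    (IsPullback.of_hasPullback f g).w.symm (by simp)

theorem fibMap_fiberι (y' : Y') :
    fibMap f g y' ≫ f.fiberι (g y') = (pullback.snd f g).fiberι y' ≫ pullback.fst f g := by
  unfold fibMap Scheme.Hom.fiberι
  exact pullback.lift_fst _ _ _

theorem isPullback_fibMap (y' : Y') :
    IsPullback (fibMap f g y') ((pullback.snd f g).fiberToSpecResidueField y')
      (f.fiberToSpecResidueField (g y')) (Spec.map (g.residueFieldMap y')) :=
  isPullback_fiberToSpecResidueField_of_isPullback (IsPullback.of_hasPullback f g) y'

instance flat_fibMap (y' : Y') : Flat (fibMap f g y') := by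
  haveI : Subsingleton ↥(Spec (Y.residueField (g y'))) :=
    inferInstanceAs (Subsingleton (PrimeSpectrum (Y.residueField (g y'))))
  haveI : Flat (Spec.map (g.residueFieldMap y')) := inferInstance
  exact MorphismProperty.of_isPullback (P := @Flat) (isPullback_fibMap f g y').flip inferInstance

instance surjective_fibMap (y' : Y') : Surjective (fibMap f g y') := by
  haveI : Surjective (Spec.map (g.residueFieldMap y')) := by
    constructor
    intro a
    refine ⟨⟨⊥, Ideal.isPrime_bot⟩, Subsingleton.elim (α := PrimeSpectrum (Y.residueField (g y'))) _ _⟩
  exact MorphismProperty.of_isPullback (P := @Surjective) (isPullback_fibMap f g y').flip inferInstance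

end Groth.Agent.Lib.Helper5.FFRel
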