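import Mathlib
import Groth.Prelude.Def_FlatMod2
import Groth.Agent.Lib.Helper5.Stalk.Pull
import Groth.Agent.Lib.Helper3.FibStalk
import Groth.Agent.Lib.Helper8.ExtScal
import Groth.Agent.Lib.Helper8.FlatMod1

/-!
# Nonvanishing of the fibre of a module at a point (helper5)
-/

set_option autoImplicit false
universe u
open CategoryTheory CategoryTheory.Limits AlgebraicGeometry TopologicalSpace TensorProduct IsLocalRing
open Groth.Agent.Lib.Helper5.StalkAdj

namespace Groth.Agent.Lib.Helper5.FFRel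

variable {X Y : Scheme.{u}} (f : X ⟶ Y)

/-- `F_x ⊗ κ(f x) ≠ 0` -/
def NV (F : X.Modules) (x : X) : Prop :=
  letI := FlatMod.moduleStalkOver f F x
  maximalIdeal (Y.presheaf.stalk (f.base x)) •
    (⊤ : Submodule (Y.presheaf.stalk (f.base x)) (F.presheaf.stalk x)) ≠ ⊤

theorem nv_iff (F : X.Modules) (x : X) :
    NV f F x ↔ (maximalIdeal (Y.presheaf.stalk (f.base x))).map (f.stalkMap x).hom •
      (⊤ : Submodule (X.presheaf.stalk x) (F.presheaf.stalk x)) ≠ ⊤ := by
  letI alg : Algebra (Y.presheaf.stalk (f.base x)) (X.presheaf.stalk x) :=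
    (f.stalkMap x).hom.toAlgebra
  letI mA : Module (Y.presheaf.stalk (f.base x)) (F.presheaf.stalk x) :=
    FlatMod.moduleStalkOver f F x
  haveI : IsScalarTower (Y.presheaf.stalk (f.base x)) (X.presheaf.stalk x) (F.presheaf.stalk x) :=
    IsScalarTower.of_compHom _ _ _
  unfold NV
  rw [not_iff_not, Submodule.eq_top_iff', Submodule.eq_top_iff']
  refine forall_congr' fun n => ?_
  exact Groth.Agent.Helper8.FlatMod.mem_smul_top_iff (R := Y.presheaf.stalk (f.base x))
    (S := X.presheaf.stalk x) _ n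

/-- **the stalk of the restriction of `F` to a fibre is nonzero iff `F_x ⊗ κ(f x) ≠ 0`** -/
theorem nontrivial_fibre_stalk_iff (F : X.Modules) (y : Y) (z : f.fiber y) :
    Nontrivial (((Scheme.Modules.pullback (f.fiberι y)).obj F).presheaf.stalk z) ↔
      NV f F (f.fiberι y z) := by
  letI algST : Algebra (X.presheaf.stalk (f.fiberι y z)) ((f.fiber y).presheaf.stalk z) :=
    ((f.fiberι y).stalkMap z).hom.toAlgebra
  have hsurj : Function.Surjective (algebraMap (X.presheaf.stalk (f.fiberι y z))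
      ((f.fiber y).presheaf.stalk z)) := (f.fiberι y).stalkMap_surjective z
  have hker : RingHom.ker (algebraMap (X.presheaf.stalk (f.fiberι y z))
      ((f.fiber y).presheaf.stalk z)) =
      (maximalIdeal (Y.presheaf.stalk (f (f.fiberι y z)))).map (f.stalkMap (f.fiberι y z)).hom :=
    Groth.Agent.Helper3.FibStalk.ker_stalkMap_fiberι f y z
  let G := (Scheme.Modules.pullback (f.fiberι y)).obj F
  let e1 : (G.presheaf.stalk z) ≃ₗ[(f.fiber y).presheaf.stalk z]
      ((ModuleCat.extendScalars.{u, u, u} ((f.fiberι y).stalkMap z).hom).obj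
        ((stalkSh X (f.fiberι y z)).obj F)) :=
    ((stalkPullbackIso (f.fiberι y) z).app F).toLinearEquiv
  let e2 : ((ModuleCat.extendScalars.{u, u, u} ((f.fiberι y).stalkMap z).hom).obj
      ((stalkSh X (f.fiberι y z)).obj F)) ≃ₗ[(f.fiber y).presheaf.stalk z]
      (((f.fiber y).presheaf.stalk z) ⊗[X.presheaf.stalk (f.fiberι y z)]
        (F.presheaf.stalk (f.fiberι y z))) :=
    Groth.Agent.Helper8.extScalEquiv (R := X.presheaf.stalk (f.fiberι y z))
      (S := (f.fiber y).presheaf.stalk z) ((stalkSh X (f.fiberι y z)).obj F)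
  let eT : ((f.fiber y).presheaf.stalk z) ≃ₗ[X.presheaf.stalk (f.fiberι y z)]
      (X.presheaf.stalk (f.fiberι y z) ⧸ RingHom.ker (algebraMap (X.presheaf.stalk (f.fiberι y z))
        ((f.fiber y).presheaf.stalk z))) :=
    (Ideal.quotientKerAlgEquivOfSurjective (f := Algebra.ofId (X.presheaf.stalk (f.fiberι y z))
      ((f.fiber y).presheaf.stalk z)) hsurj).symm.toLinearEquiv
  let e3 : (((f.fiber y).presheaf.stalk z) ⊗[X.presheaf.stalk (f.fiberι y z)]
        (F.presheaf.stalk (f.fiberι y z))) ≃ₗ[X.presheaf.stalk (f.fiberι y z)]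
      (F.presheaf.stalk (f.fiberι y z) ⧸ (RingHom.ker (algebraMap (X.presheaf.stalk (f.fiberι y z))
        ((f.fiber y).presheaf.stalk z)) •
        (⊤ : Submodule (X.presheaf.stalk (f.fiberι y z)) (F.presheaf.stalk (f.fiberι y z))))) :=
    TensorProduct.congr eT (LinearEquiv.refl _ _) ≪≫ₗ TensorProduct.quotTensorEquivQuotSMul _ _
  rw [(e1 ≪≫ₗ e2).toEquiv.nontrivial_congr, e3.toEquiv.nontrivial_congr,
    Submodule.Quotient.nontrivial_iff, nv_iff, hker]

end Groth.Agent.Lib.Helper5.FFRel
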