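import Mathlib
import Groth.Agent.Lib.Helper5.FFRel.FibMap
import Groth.Agent.Lib.Helper5.FFRel.FibNV

/-!
# Nonvanishing of fibres is preserved by base change at a suitable point (helper5)
-/

set_option autoImplicit false
universe u
open CategoryTheory CategoryTheory.Limits AlgebraicGeometry TopologicalSpace TensorProduct IsLocalRing
open Groth.Agent.Lib.Helper5.StalkAdj

namespace Groth.Agent.Lib.Helper5.FFRel

variable {X Y Y' : Scheme.{u}}

/-- pullback along a flat morphism preserves nonvanishing of stalks -/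
theorem nontrivial_stalk_pullback_of_flat {Z W : Scheme.{u}} (φ : Z ⟶ W) [Flat φ] (E : W.Modules)
    (z : Z) (h : Nontrivial (E.presheaf.stalk (φ z))) :
    Nontrivial (((Scheme.Modules.pullback φ).obj E).presheaf.stalk z) := by
  letI alg : Algebra (W.presheaf.stalk (φ z)) (Z.presheaf.stalk z) := (φ.stalkMap z).hom.toAlgebra
  let G := (Scheme.Modules.pullback φ).obj E
  let e1 : (G.presheaf.stalk z) ≃ₗ[Z.presheaf.stalk z]
      ((ModuleCat.extendScalars.{u, u, u} (φ.stalkMap z).hom).obj
        ((stalkSh W (φ z)).obj E)) := ((stalkPullbackIso φ z).app E).toLinearEquiv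
  let e2 : ((ModuleCat.extendScalars.{u, u, u} (φ.stalkMap z).hom).obj
      ((stalkSh W (φ z)).obj E)) ≃ₗ[Z.presheaf.stalk z]
      ((Z.presheaf.stalk z) ⊗[W.presheaf.stalk (φ z)] (E.presheaf.stalk (φ z))) :=
    Groth.Agent.Helper8.extScalEquiv (R := W.presheaf.stalk (φ z))
      (S := Z.presheaf.stalk z) ((stalkSh W (φ z)).obj E)
  rw [(e1 ≪≫ₗ e2).toEquiv.nontrivial_congr]
  haveI : Module.Flat (W.presheaf.stalk (φ z)) (Z.presheaf.stalk z) := Flat.stalkMap φ z
  haveI : IsLocalHom (algebraMap (W.presheaf.stalk (φ z)) (Z.presheaf.stalk z)) :=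
    inferInstanceAs (IsLocalHom (φ.stalkMap z).hom)
  haveI : Module.FaithfullyFlat (W.presheaf.stalk (φ z)) (Z.presheaf.stalk z) :=
    Module.FaithfullyFlat.of_flat_of_isLocalHom
  exact (Module.FaithfullyFlat.nontrivial_tensorProduct_iff_right _ _).2 h

/-- isomorphic modules have equivalent stalks -/
theorem nontrivial_stalk_of_iso {Z : Scheme.{u}} {E E' : Z.Modules} (e : E ≅ E') (z : Z)
    (h : Nontrivial (E.presheaf.stalk z)) : Nontrivial (E'.presheaf.stalk z) := by
  have e' := ((stalkSh Z z).mapIso e).toLinearEquiv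
  exact e'.toEquiv.nontrivial_congr.1 h

theorem exists_nv_pullback (f : X ⟶ Y) (g : Y' ⟶ Y) (F : X.Modules) (y' : Y') (x : X)
    (hx : f x = g y') (h : NV f F x) :
    ∃ x' : ↥(pullback f g), pullback.snd f g x' = y' ∧
      NV (pullback.snd f g) ((Scheme.Modules.pullback (pullback.fst f g)).obj F) x' := by
  have hxr : x ∈ Set.range (f.fiberι (g y')) := by
    rw [f.range_fiberι]
    exact hx
  obtain ⟨z, rfl⟩ := hxr
  have h1 := (nontrivial_fibre_stalk_iff f F (g y') z).2 h
  obtain ⟨z', rfl⟩ := (fibMap f g y').surjective z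
  refine ⟨(pullback.snd f g).fiberι y' z', ?_, ?_⟩
  · have : (pullback.snd f g).fiberι y' z' ∈ Set.range ((pullback.snd f g).fiberι y') := ⟨z', rfl⟩
    rw [(pullback.snd f g).range_fiberι] at this
    exact this
  · refine (nontrivial_fibre_stalk_iff (pullback.snd f g) _ y' z').1 ?_
    have h2 := nontrivial_stalk_pullback_of_flat (fibMap f g y')
      ((Scheme.Modules.pullback (f.fiberι (g y'))).obj F) z' h1
    let e : (Scheme.Modules.pullback (fibMap f g y')).obj
        ((Scheme.Modules.pullback (f.fiberι (g y'))).obj F) ≅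
        (Scheme.Modules.pullback ((pullback.snd f g).fiberι y')).obj
          ((Scheme.Modules.pullback (pullback.fst f g)).obj F) :=
      (Scheme.Modules.pullbackComp (fibMap f g y') (f.fiberι (g y'))).app F ≪≫
        (Scheme.Modules.pullbackCongr (fibMap_fiberι f g y')).app F ≪≫
        ((Scheme.Modules.pullbackComp ((pullback.snd f g).fiberι y') (pullback.fst f g)).app F).symm
    exact nontrivial_stalk_of_iso e z' h2

end Groth.Agent.Lib.Helper5.FFRel
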