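import Mathlib
import Groth.Prelude.Def_FlatMod2
import Groth.Prelude.Def_CohB1
import Groth.Agent.Lib.Helper5.FFRel.Alg
import Groth.Agent.Lib.Helper5.FFRel.FibNV
import Groth.Agent.Lib.Helper5.Stalk.Pull
import Groth.Agent.Lib.Helper5.StalkTen.StalkTenS
import Groth.Agent.Lib.Helper8.ExtScal

/-!
# Flatness and nonvanishing of `F ⊗ f^*E` over a further base (helper5)
-/

set_option autoImplicit false
universe u
open CategoryTheory CategoryTheory.Limits AlgebraicGeometry TopologicalSpace TensorProduct IsLocalRing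
open Groth.Agent.Lib.Helper5.StalkAdj Groth.Agent.Lib.Helper5.StalkTenS

namespace Groth.Agent.Lib.Helper5.FFRel

variable {X Y Z : Scheme.{u}} (f : X ⟶ Y) (h : Y ⟶ Z) (E : Y.Modules) (F : X.Modules) (x : X)

set_option maxHeartbeats 1600000 in
theorem tensor_pull_transfer :
    (FlatMod.IsFlatOverAt f F x → FlatMod.IsFlatOverAt h E (f x) →
      FlatMod.IsFlatOverAt (f ≫ h) (CohB1.tensorMod F ((Scheme.Modules.pullback f).obj E)) x) ∧
    (FlatMod.IsFlatOverAt f F x → NV f F x →
      FlatMod.IsFlatOverAt (f ≫ h) (CohB1.tensorMod F ((Scheme.Modules.pullback f).obj E)) x →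
      FlatMod.IsFlatOverAt h E (f x)) ∧
    (NV (f ≫ h) (CohB1.tensorMod F ((Scheme.Modules.pullback f).obj E)) x → NV h E (f x)) ∧
    (FlatMod.IsFlatOverAt f F x → NV f F x → NV h E (f x) →
      NV (f ≫ h) (CohB1.tensorMod F ((Scheme.Modules.pullback f).obj E)) x) := by
  letI algAB : Algebra (Y.presheaf.stalk (f x)) (X.presheaf.stalk x) := (f.stalkMap x).hom.toAlgebra
  letI algCA : Algebra (Z.presheaf.stalk (h (f x))) (Y.presheaf.stalk (f x)) :=
    (h.stalkMap (f x)).hom.toAlgebra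
  letI algCB : Algebra (Z.presheaf.stalk (h (f x))) (X.presheaf.stalk x) :=
    ((f ≫ h).stalkMap x).hom.toAlgebra
  haveI towCAB : IsScalarTower (Z.presheaf.stalk (h (f x))) (Y.presheaf.stalk (f x))
      (X.presheaf.stalk x) := IsScalarTower.of_algebraMap_eq' (by
    change ((f ≫ h).stalkMap x).hom = (f.stalkMap x).hom.comp (h.stalkMap (f x)).hom
    rw [Scheme.Hom.stalkMap_comp]
    rfl)
  -- the module `P = F_x`
  letI mAP : Module (Y.presheaf.stalk (f x)) (F.presheaf.stalk x) := FlatMod.moduleStalkOver f F x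
  haveI towABP : IsScalarTower (Y.presheaf.stalk (f x)) (X.presheaf.stalk x) (F.presheaf.stalk x) :=
    IsScalarTower.of_compHom _ _ _
  letI mCP : Module (Z.presheaf.stalk (h (f x))) (F.presheaf.stalk x) :=
    Module.compHom _ (algebraMap (Z.presheaf.stalk (h (f x))) (X.presheaf.stalk x))
  haveI towCBP : IsScalarTower (Z.presheaf.stalk (h (f x))) (X.presheaf.stalk x)
      (F.presheaf.stalk x) := IsScalarTower.of_compHom _ _ _
  haveI towCAP : IsScalarTower (Z.presheaf.stalk (h (f x))) (Y.presheaf.stalk (f x))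
      (F.presheaf.stalk x) := IsScalarTower.of_algebraMap_smul (fun c p => by
    change (algebraMap (Y.presheaf.stalk (f x)) (X.presheaf.stalk x)
      (algebraMap (Z.presheaf.stalk (h (f x))) (Y.presheaf.stalk (f x)) c)) • p =
      (algebraMap (Z.presheaf.stalk (h (f x))) (X.presheaf.stalk x) c) • p
    rw [← IsScalarTower.algebraMap_apply])
  -- the module `N = E_{f x}`
  letI mCN : Module (Z.presheaf.stalk (h (f x))) (E.presheaf.stalk (f x)) :=
    FlatMod.moduleStalkOver h E (f x)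
  haveI towCAN : IsScalarTower (Z.presheaf.stalk (h (f x))) (Y.presheaf.stalk (f x))
      (E.presheaf.stalk (f x)) := IsScalarTower.of_compHom _ _ _
  -- the module `T`
  let G := (Scheme.Modules.pullback f).obj E
  letI mCT : Module (Z.presheaf.stalk (h (f x))) ((CohB1.tensorMod F G).presheaf.stalk x) :=
    FlatMod.moduleStalkOver (f ≫ h) (CohB1.tensorMod F G) x
  haveI towCBT : IsScalarTower (Z.presheaf.stalk (h (f x))) (X.presheaf.stalk x)
      ((CohB1.tensorMod F G).presheaf.stalk x) := IsScalarTower.of_compHom _ _ _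
  -- the equivalence
  let e0 : (CohB1.tensorMod F G).presheaf.stalk x ≃ₗ[X.presheaf.stalk x]
      (F.presheaf.stalk x) ⊗[X.presheaf.stalk x] (G.presheaf.stalk x) :=
    (stalkTensorIsoS X x F G).toLinearEquiv
  let e1 : (G.presheaf.stalk x) ≃ₗ[X.presheaf.stalk x]
      ((ModuleCat.extendScalars.{u, u, u} (f.stalkMap x).hom).obj
        ((stalkSh Y (f x)).obj E)) := ((stalkPullbackIso f x).app E).toLinearEquiv
  let e2 : ((ModuleCat.extendScalars.{u, u, u} (f.stalkMap x).hom).obj
      ((stalkSh Y (f x)).obj E)) ≃ₗ[X.presheaf.stalk x]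
      ((X.presheaf.stalk x) ⊗[Y.presheaf.stalk (f x)] (E.presheaf.stalk (f x))) :=
    Groth.Agent.Helper8.extScalEquiv (R := Y.presheaf.stalk (f x))
      (S := X.presheaf.stalk x) ((stalkSh Y (f x)).obj E)
  let e3 : (F.presheaf.stalk x) ⊗[X.presheaf.stalk x] (G.presheaf.stalk x) ≃ₗ[X.presheaf.stalk x]
      (F.presheaf.stalk x) ⊗[X.presheaf.stalk x]
        ((X.presheaf.stalk x) ⊗[Y.presheaf.stalk (f x)] (E.presheaf.stalk (f x))) :=
    TensorProduct.congr (LinearEquiv.refl _ _) (e1 ≪≫ₗ e2)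
  let e5 : (F.presheaf.stalk x) ⊗[X.presheaf.stalk x]
        ((X.presheaf.stalk x) ⊗[Y.presheaf.stalk (f x)] (E.presheaf.stalk (f x)))
      ≃ₗ[X.presheaf.stalk x]
      (F.presheaf.stalk x) ⊗[Y.presheaf.stalk (f x)] (E.presheaf.stalk (f x)) :=
    TensorProduct.AlgebraTensorModule.cancelBaseChange (Y.presheaf.stalk (f x))
      (X.presheaf.stalk x) (X.presheaf.stalk x) (F.presheaf.stalk x) (E.presheaf.stalk (f x))
  let e : (CohB1.tensorMod F G).presheaf.stalk x ≃ₗ[X.presheaf.stalk x]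
      (F.presheaf.stalk x) ⊗[Y.presheaf.stalk (f x)] (E.presheaf.stalk (f x)) :=
    e0 ≪≫ₗ e3 ≪≫ₗ e5
  let eC : (CohB1.tensorMod F G).presheaf.stalk x ≃ₗ[Z.presheaf.stalk (h (f x))]
      (F.presheaf.stalk x) ⊗[Y.presheaf.stalk (f x)] (E.presheaf.stalk (f x)) :=
    e.restrictScalars (Z.presheaf.stalk (h (f x)))
  refine ⟨?_, ?_, ?_, ?_⟩
  · intro hP hN
    haveI : Module.Flat (Y.presheaf.stalk (f x)) (F.presheaf.stalk x) := hP
    haveI : Module.Flat (Z.presheaf.stalk (h (f x))) (E.presheaf.stalk (f x)) := hN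
    haveI := flat_tensor_of_flat (K := Z.presheaf.stalk (h (f x))) (B := Y.presheaf.stalk (f x))
      (F.presheaf.stalk x) (E.presheaf.stalk (f x))
    change Module.Flat (Z.presheaf.stalk (h (f x))) ((CohB1.tensorMod F G).presheaf.stalk x)
    exact Module.Flat.of_linearEquiv eC
  · intro hP hnv hT
    haveI : Module.Flat (Y.presheaf.stalk (f x)) (F.presheaf.stalk x) := hP
    haveI : Module.FaithfullyFlat (Y.presheaf.stalk (f x)) (F.presheaf.stalk x) :=
      faithfullyFlat_of_flat_of_ne_top _ hnv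
    haveI hT' : Module.Flat (Z.presheaf.stalk (h (f x)))
        ((CohB1.tensorMod F G).presheaf.stalk x) := hT
    haveI : Module.Flat (Z.presheaf.stalk (h (f x)))
        ((F.presheaf.stalk x) ⊗[Y.presheaf.stalk (f x)] (E.presheaf.stalk (f x))) :=
      Module.Flat.of_linearEquiv eC.symm
    exact flat_of_flat_tensor (K := Z.presheaf.stalk (h (f x))) (B := Y.presheaf.stalk (f x))
      (F.presheaf.stalk x) (E.presheaf.stalk (f x))
  · intro hT hN
    apply hT
    have h1 := smul_top_tensor_eq_top_of (K := Z.presheaf.stalk (h (f x)))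
      (B := Y.presheaf.stalk (f x)) (F.presheaf.stalk x) (E.presheaf.stalk (f x))
      (maximalIdeal (Z.presheaf.stalk (h (f x)))) hN
    exact (smul_top_eq_top_congr eC _).2 h1
  · intro hP hnv hN hT
    haveI : Module.Flat (Y.presheaf.stalk (f x)) (F.presheaf.stalk x) := hP
    haveI : Module.FaithfullyFlat (Y.presheaf.stalk (f x)) (F.presheaf.stalk x) :=
      faithfullyFlat_of_flat_of_ne_top _ hnv
    apply hN
    have h1 := (smul_top_eq_top_congr eC _).1 hT
    exact (smul_top_tensor_eq_top_iff (K := Z.presheaf.stalk (h (f x)))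
      (B := Y.presheaf.stalk (f x)) (F.presheaf.stalk x) (E.presheaf.stalk (f x))
      (maximalIdeal (Z.presheaf.stalk (h (f x))))).1 h1

end Groth.Agent.Lib.Helper5.FFRel
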